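import Mathlib
import Groth.Agent.Lib.Helper24.SubDim.Main4985
import Groth.Agent.Lib.Helper24.OpenAt.Main4919

/-!
# Dimension of the section component under generization (EGA IV 15.6-type) (helper24)
-/

set_option autoImplicit false
set_option linter.style.haveILetI false
universe u
open scoped Cardinal
open AlgebraicGeometry CategoryTheory TopologicalSpace Topology
open Groth.Agent.Lib.Helper7 Groth.Agent.Lib.lead Groth.Agent.Lib.Helper18
open Groth.Agent.Lib.Helper24.FibreDim Groth.Agent.Lib.Helper24.OpenAt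
open Groth.Agent.Lib.Helper24.SubDim

namespace Groth.Agent.Lib.Helper24.SecComp

variable {X Y : Scheme.{u}}

theorem dim_closure_inter_fibre' (f : X ⟶ Y) [LocallyOfFiniteType f] (ξ : X) (y : Y)
    (h : f ξ = y) :
    topologicalKrullDim ↥(closure ({ξ} : Set X) ∩ f ⁻¹' {y}) = ((tr f ξ : ℕ) : WithBot ℕ∞) := by
  subst h
  exact dim_closure_inter_fibre f ξ

theorem dim_le_of_subset {T : Type*} [TopologicalSpace T] {A B : Set T} (h : A ⊆ B) :
    topologicalKrullDim ↥A ≤ topologicalKrullDim ↥B :=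
  (IsInducing.topologicalKrullDim_le (f := Set.inclusion h)
    (IsEmbedding.inclusion h).isInducing)

/-- The closure of a point of a fibre, inside the fibre, is preconnected. -/
theorem isPreconnected_closure_inter (f : X ⟶ Y) (z : X) (y : Y) (h : f z = y) :
    IsPreconnected (closure ({z} : Set X) ∩ f ⁻¹' {y}) := by
  apply IsPreconnected.subset_closure (isPreconnected_singleton (x := z))
  · rintro _ rfl
    exact ⟨subset_closure rfl, h⟩
  · exact Set.inter_subset_left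

/-- **Key step**: a generization `ζ₀` of `a` gives a point `z` of the fibre through `a`, between
`ζ₀` and `a`, with at least the same residue transcendence degree. -/
theorem exists_between (f : X ⟶ Y) [LocallyOfFiniteType f] (ζ₀ a : X) (h : ζ₀ ⤳ a) :
    ∃ z : X, ζ₀ ⤳ z ∧ z ⤳ a ∧ f z = f a ∧ tr f ζ₀ ≤ tr f z := by
  let Tc : TopologicalSpace.Closeds X := ⟨closure {ζ₀}, isClosed_closure⟩
  set ι := (Scheme.IdealSheafData.vanishingIdeal Tc).subschemeι with hι
  have hr : Set.range ι = closure ({ζ₀} : Set X) := by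
    rw [Scheme.IdealSheafData.range_subschemeι, Scheme.IdealSheafData.coe_support_vanishingIdeal]
    rfl
  obtain ⟨ξ'', hξ''⟩ : ζ₀ ∈ Set.range ι := by rw [hr]; exact subset_closure rfl
  obtain ⟨t', ht'⟩ : a ∈ Set.range ι := by rw [hr]; exact specializes_iff_mem_closure.mp h
  have hsp : ξ'' ⤳ t' := by
    rw [← ι.isClosedEmbedding.isEmbedding.isInducing.specializes_iff, hξ'', ht']
    exact h
  have h1 := fibreDimAt_mono (ι ≫ f) hsp
  have h2 := tr_le_fibreDimAt (ι ≫ f) (specializes_refl ξ'') rfl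
  obtain ⟨z', hz'1, hz'2, -, hz'4⟩ := exists_max_tr (ι ≫ f) t'
  refine ⟨ι z', ?_, ?_, ?_, ?_⟩
  · rw [specializes_iff_mem_closure, ← hr]
    exact ⟨z', rfl⟩
  · rw [← ht']
    exact hz'2.map ι.continuous
  · rw [← ht']
    exact hz'1
  · have h3 : ((tr (ι ≫ f) ξ'' : ℕ) : WithBot ℕ∞) ≤ ((tr (ι ≫ f) z' : ℕ) : WithBot ℕ∞) := by
      rw [hz'4]
      exact h2.trans h1
    rw [tr_comp_of_lqf ι f, tr_comp_of_lqf ι f, hξ''] at h3
    exact_mod_cast h3

theorem main4952 (f : X ⟶ Y)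
    [LocallyOfFiniteType f] (g : Y ⟶ X) (y y' : Y) (hy : y' ⤳ y)
    (hfg : ∀ t : Y, f (g t) = t)
    (hZ : ∃ Z : Set X, Z ⊆ f.base ⁻¹' {y'} ∧ IsIrreducible Z ∧
      (∀ Z' : Set X, IsIrreducible Z' → Z' ⊆ f.base ⁻¹' {y'} → Z ⊆ Z' → Z' = Z) ∧ g.base y' ∈ Z ∧
      topologicalKrullDim ↥Z =
        topologicalKrullDim ↥(connectedComponentIn (f.base ⁻¹' {y'}) (g.base y'))) :
    topologicalKrullDim ↥(connectedComponentIn (f.base ⁻¹' {y'}) (g.base y')) ≤
        topologicalKrullDim ↥(connectedComponentIn (f.base ⁻¹' {y}) (g.base y)) ∧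
      (IsIrreducible (connectedComponentIn (f.base ⁻¹' {y}) (g.base y)) →
        topologicalKrullDim ↥(connectedComponentIn (f.base ⁻¹' {y}) (g.base y)) =
          topologicalKrullDim ↥(connectedComponentIn (f.base ⁻¹' {y'}) (g.base y')) →
        connectedComponentIn (f.base ⁻¹' {y}) (g.base y) ⊆
          closure (connectedComponentIn (f.base ⁻¹' {y'}) (g.base y'))) := by
  obtain ⟨Z, hZy, hZirr, hZmax, hgZ, hdimZ⟩ := hZ
  obtain ⟨ζ₀, hζ₀Z, hfζ₀, hZeq, -, -⟩ := exists_generic_of_fibre_component f y' Z hZy hZirr hZmax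
  have hdimZ' : topologicalKrullDim ↥Z = ((tr f ζ₀ : ℕ) : WithBot ℕ∞) := by
    rw [hZeq]
    exact dim_closure_inter_fibre' f ζ₀ y' hfζ₀
  -- `ζ₀` specializes to `g y`
  have hζ₀gy' : ζ₀ ⤳ g y' := by
    rw [specializes_iff_mem_closure]
    have : g y' ∈ closure ({ζ₀} : Set X) ∩ f ⁻¹' {y'} := hZeq ▸ hgZ
    exact this.1
  have hζ₀gy : ζ₀ ⤳ g y := hζ₀gy'.trans (hy.map g.continuous)
  obtain ⟨z, hζ₀z, hzgy, hfz, htr⟩ := exists_between f ζ₀ (g y) hζ₀gy
  have hfz' : f z = y := hfz.trans (hfg y)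
  -- the irreducible set `C`
  set C : Set X := closure ({z} : Set X) ∩ f ⁻¹' {y} with hC
  have hCdim : topologicalKrullDim ↥C = ((tr f z : ℕ) : WithBot ℕ∞) :=
    dim_closure_inter_fibre' f z y hfz'
  have hgyC : g y ∈ C := ⟨specializes_iff_mem_closure.mp hzgy, hfg y⟩
  have hCsub : C ⊆ connectedComponentIn (f.base ⁻¹' {y}) (g.base y) :=
    (isPreconnected_closure_inter f z y hfz').subset_connectedComponentIn hgyC Set.inter_subset_right
  have hpart1 : topologicalKrullDim ↥(connectedComponentIn (f.base ⁻¹' {y'}) (g.base y')) ≤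
      topologicalKrullDim ↥(connectedComponentIn (f.base ⁻¹' {y}) (g.base y)) := by
    rw [← hdimZ, hdimZ']
    refine le_trans ?_ (dim_le_of_subset hCsub)
    rw [hCdim]
    exact_mod_cast htr
  refine ⟨hpart1, ?_⟩
  intro hirr hdimeq
  set CC := connectedComponentIn (f.base ⁻¹' {y}) (g.base y) with hCC
  have hgyF : g y ∈ f.base ⁻¹' {y} := hfg y
  have hCCsub : CC ⊆ f.base ⁻¹' {y} := connectedComponentIn_subset _ _
  have hCCmax : ∀ Z' : Set X, IsIrreducible Z' → Z' ⊆ f.base ⁻¹' {y} → CC ⊆ Z' → Z' = CC := by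
    intro Z' hZ'irr hZ'sub hCCZ'
    refine subset_antisymm ?_ hCCZ'
    exact hZ'irr.2.isPreconnected.subset_connectedComponentIn
      (hCCZ' (mem_connectedComponentIn hgyF)) hZ'sub
  obtain ⟨ζ', hζ'CC, hfζ', hCCeq, -, -⟩ :=
    exists_generic_of_fibre_component f y CC hCCsub hirr hCCmax
  have hdimCC : topologicalKrullDim ↥CC = ((tr f ζ' : ℕ) : WithBot ℕ∞) := by
    rw [hCCeq]
    exact dim_closure_inter_fibre' f ζ' y hfζ'
  -- `z = ζ'`
  have hzCC : z ∈ CC := hCsub ⟨subset_closure rfl, hfz'⟩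
  have hζ'z : ζ' ⤳ z := by
    rw [specializes_iff_mem_closure]
    have : z ∈ closure ({ζ'} : Set X) ∩ f ⁻¹' {y} := hCCeq ▸ hzCC
    exact this.1
  have htreq : tr f ζ' = tr f ζ₀ := by
    have h1 : ((tr f ζ' : ℕ) : WithBot ℕ∞) = ((tr f ζ₀ : ℕ) : WithBot ℕ∞) := by
      rw [← hdimCC, hdimeq, ← hdimZ, hdimZ']
    exact_mod_cast h1
  have hzeq : z = ζ' := by
    by_contra hne
    have hlt : z < ζ' := by
      rw [lt_iff_le_not_ge]
      refine ⟨hζ'z, fun hge => hne ?_⟩
      have hge' : z ⤳ ζ' := hge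
      exact (hge'.antisymm hζ'z).eq
    have h1 := tr_lt_of_lt f hlt (hfz'.trans hfζ'.symm)
    omega
  -- conclusion
  have hZsub : Z ⊆ connectedComponentIn (f.base ⁻¹' {y'}) (g.base y') :=
    hZirr.2.isPreconnected.subset_connectedComponentIn hgZ hZy
  intro c hc
  have hc' : c ∈ closure ({ζ'} : Set X) ∩ f ⁻¹' {y} := hCCeq ▸ hc
  have h1 : ζ' ⤳ c := specializes_iff_mem_closure.mpr hc'.1
  have h2 : ζ₀ ⤳ c := (hzeq ▸ hζ₀z).trans h1
  exact closure_mono (Set.singleton_subset_iff.mpr (hZsub hζ₀Z)) (specializes_iff_mem_closure.mp h2)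

end Groth.Agent.Lib.Helper24.SecComp
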