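import Mathlib
import Groth.Agent.Lib.Helper24.SecComp.Main4952

/-!
# Upper semicontinuity of the dimension of the section component (helper24)
-/

set_option autoImplicit false
set_option linter.style.haveILetI false
universe u
open scoped Cardinal
open AlgebraicGeometry CategoryTheory TopologicalSpace Topology
open Groth.Agent.Lib.Helper7 Groth.Agent.Lib.lead Groth.Agent.Lib.Helper18
open Groth.Agent.Lib.Helper24.FibreDim Groth.Agent.Lib.Helper24.OpenAt
open Groth.Agent.Lib.Helper24.SubDim

namespace Groth.Agent.Lib.Helper24.SecComp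

variable {X Y : Scheme.{u}}

/-- Chevalley: the local fibre dimension is upper semicontinuous on the source. -/
theorem upperSemicontinuous_fibreDimAt (f : X ⟶ Y) [LocallyOfFiniteType f] :
    UpperSemicontinuous (fun x : X => FlatMor.fibreDimAt f x) := by
  rw [upperSemicontinuous_iff_isOpen_preimage]
  intro c
  cases c with
  | bot =>
    have : (fun x : X => FlatMor.fibreDimAt f x) ⁻¹' Set.Iio ⊥ = ∅ := by
      ext x; simp
    rw [this]; exact isOpen_empty
  | coe a =>
    cases a with
    | top =>
      have : (fun x : X => FlatMor.fibreDimAt f x) ⁻¹' Set.Iio ((⊤ : ℕ∞) : WithBot ℕ∞) =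
          Set.univ := by
        ext x
        simp only [Set.mem_preimage, Set.mem_Iio, Set.mem_univ, iff_true]
        obtain ⟨d, hd⟩ := Chev.exists_nat_fibreDimAt f x
        rw [hd]
        show (((d : ℕ) : ℕ∞) : WithBot ℕ∞) < ((⊤ : ℕ∞) : WithBot ℕ∞)
        exact WithBot.coe_lt_coe.mpr (ENat.coe_lt_top d)
      rw [this]; exact isOpen_univ
    | coe n =>
      cases n with
      | zero =>
        have : (fun x : X => FlatMor.fibreDimAt f x) ⁻¹' Set.Iio (((0 : ℕ) : ℕ∞) : WithBot ℕ∞) =
            ∅ := by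
          ext x
          simp only [Set.mem_preimage, Set.mem_Iio, Set.mem_empty_iff_false, iff_false, not_lt]
          obtain ⟨d, hd⟩ := Chev.exists_nat_fibreDimAt f x
          rw [hd]
          exact_mod_cast Nat.zero_le d
        rw [this]; exact isOpen_empty
      | succ m =>
        have : (fun x : X => FlatMor.fibreDimAt f x) ⁻¹'
            Set.Iio (((m + 1 : ℕ) : ℕ∞) : WithBot ℕ∞) =
            {x : X | FlatMor.fibreDimAt f x ≤ (m : WithBot ℕ∞)} := by
          ext x
          simp only [Set.mem_preimage, Set.mem_Iio, Set.mem_setOf_eq]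
          obtain ⟨d, hd⟩ := Chev.exists_nat_fibreDimAt f x
          rw [hd]
          constructor
          · intro h
            have : d < m + 1 := by exact_mod_cast h
            have : d ≤ m := by omega
            exact_mod_cast this
          · intro h
            have : d ≤ m := by exact_mod_cast h
            have : d < m + 1 := by omega
            exact_mod_cast this
        rw [this]
        exact Chev.isOpen_fibreDimAt_le f m

/-- If the section component of the fibre is irreducible, its dimension is the local fibre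
dimension at the section. -/
theorem dim_sectionComponent_eq (f : X ⟶ Y) [LocallyOfFiniteType f] (g : Y ⟶ X)
    (hfg : ∀ t : Y, f (g t) = t) (y : Y)
    (hirr : IsIrreducible (connectedComponentIn (f.base ⁻¹' {y}) (g.base y))) :
    topologicalKrullDim ↥(connectedComponentIn (f.base ⁻¹' {y}) (g.base y)) =
      FlatMor.fibreDimAt f (g y) := by
  set CC := connectedComponentIn (f.base ⁻¹' {y}) (g.base y) with hCC
  have hgyF : g y ∈ f.base ⁻¹' {y} := hfg y
  have hCCsub : CC ⊆ f.base ⁻¹' {y} := connectedComponentIn_subset _ _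
  have hCCmax : ∀ Z' : Set X, IsIrreducible Z' → Z' ⊆ f.base ⁻¹' {y} → CC ⊆ Z' → Z' = CC := by
    intro Z' hZ'irr hZ'sub hCCZ'
    refine subset_antisymm ?_ hCCZ'
    exact hZ'irr.2.isPreconnected.subset_connectedComponentIn
      (hCCZ' (mem_connectedComponentIn hgyF)) hZ'sub
  obtain ⟨ζ', hζ'CC, hfζ', hCCeq, -, -⟩ :=
    exists_generic_of_fibre_component f y CC hCCsub hirr hCCmax
  have hdimCC : topologicalKrullDim ↥CC = ((tr f ζ' : ℕ) : WithBot ℕ∞) := by
    rw [hCCeq]
    exact dim_closure_inter_fibre' f ζ' y hfζ'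
  obtain ⟨z, hz1, hz2, hz3, hz4⟩ := exists_max_tr f (g y)
  have hfz : f z = y := hz1.trans (hfg y)
  have hgyC : g y ∈ closure ({z} : Set X) ∩ f ⁻¹' {y} :=
    ⟨specializes_iff_mem_closure.mp hz2, hfg y⟩
  have hCsub : closure ({z} : Set X) ∩ f ⁻¹' {y} ⊆ CC :=
    (isPreconnected_closure_inter f z y hfz).subset_connectedComponentIn hgyC
      Set.inter_subset_right
  have hzCC : z ∈ CC := hCsub ⟨subset_closure rfl, hfz⟩
  have hζ'z : ζ' ⤳ z := by
    rw [specializes_iff_mem_closure]
    have : z ∈ closure ({ζ'} : Set X) ∩ f ⁻¹' {y} := hCCeq ▸ hzCC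
    exact this.1
  have hzeq : ζ' = z := hz3 ζ' (hfζ'.trans hfz.symm) hζ'z
  rw [hdimCC, hzeq, hz4]

theorem upperSemicontinuous_dim_sectionComponent (f : X ⟶ Y) [LocallyOfFiniteType f] (g : Y ⟶ X)
    (hfg : ∀ t : Y, f (g t) = t)
    (hirr : ∀ y : Y, IsIrreducible (connectedComponentIn (f.base ⁻¹' {y}) (g.base y))) :
    UpperSemicontinuous (fun y : Y =>
      topologicalKrullDim ↥(connectedComponentIn (f.base ⁻¹' {y}) (g.base y))) := by
  have : (fun y : Y => topologicalKrullDim ↥(connectedComponentIn (f.base ⁻¹' {y}) (g.base y))) =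
      (fun x : X => FlatMor.fibreDimAt f x) ∘ g := by
    funext y
    exact dim_sectionComponent_eq f g hfg y (hirr y)
  rw [this]
  exact (upperSemicontinuous_fibreDimAt f).comp g.continuous

theorem main3419 (f : X ⟶ Y) [LocallyOfFiniteType f] (g : Y ⟶ X) (hfg : ∀ t : Y, f (g t) = t)
    (hirr : ∀ y : Y, IsIrreducible (connectedComponentIn (f.base ⁻¹' {y}) (g.base y))) :
    UpperSemicontinuous (fun y : Y =>
        topologicalKrullDim ↥(connectedComponentIn (f.base ⁻¹' {y}) (g.base y))) ∧
      ∀ y : Y, (∃ V ∈ nhds y, ∀ z ∈ V,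
          topologicalKrullDim ↥(connectedComponentIn (f.base ⁻¹' {z}) (g.base z)) =
            topologicalKrullDim ↥(connectedComponentIn (f.base ⁻¹' {y}) (g.base y))) →
        ∀ y' : Y, y' ⤳ y → connectedComponentIn (f.base ⁻¹' {y}) (g.base y) ⊆
          closure (connectedComponentIn (f.base ⁻¹' {y'}) (g.base y')) := by
  refine ⟨upperSemicontinuous_dim_sectionComponent f g hfg hirr, ?_⟩
  rintro y ⟨V, hV, hVeq⟩ y' hy'
  have hy'V : y' ∈ V := by
    obtain ⟨U, hUV, hUopen, hyU⟩ := mem_nhds_iff.mp hV
    exact hUV (hy'.mem_open hUopen hyU)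
  have hdim := hVeq y' hy'V
  have hgy'F : g y' ∈ f.base ⁻¹' {y'} := hfg y'
  have hmax : ∀ Z' : Set X, IsIrreducible Z' → Z' ⊆ f.base ⁻¹' {y'} →
      connectedComponentIn (f.base ⁻¹' {y'}) (g.base y') ⊆ Z' →
      Z' = connectedComponentIn (f.base ⁻¹' {y'}) (g.base y') := by
    intro Z' hZ'irr hZ'sub hCCZ'
    refine subset_antisymm ?_ hCCZ'
    exact hZ'irr.2.isPreconnected.subset_connectedComponentIn
      (hCCZ' (mem_connectedComponentIn hgy'F)) hZ'sub
  exact (main4952 f g y y' hy' hfg
    ⟨_, connectedComponentIn_subset _ _, hirr y', hmax, mem_connectedComponentIn hgy'F, rfl⟩).2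
    (hirr y) hdim.symm

end Groth.Agent.Lib.Helper24.SecComp
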