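import Mathlib
import Groth.Prelude.Def_FDesc
import Groth.Agent.Lib.Helper24.SecComp.Usc

/-!
# Upper semicontinuity of the dimension of a geometrically irreducible section component
(helper24)
-/

set_option autoImplicit false
set_option linter.style.haveILetI false
universe u
open scoped Cardinal
open AlgebraicGeometry CategoryTheory TopologicalSpace Topology

namespace Groth.Agent.Lib.Helper24.SecComp

variable {X Y : Scheme.{u}}

/-- The projection from the trivial base change is surjective. -/
theorem bcπ_self_surjective {k : Type u} [Field k] {Z : Scheme.{u}}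
    (q : Z ⟶ Spec (CommRingCat.of k)) : Function.Surjective (FBase.bcπ q k).base := by
  haveI : IsIso (Spec.map (CommRingCat.ofHom (algebraMap k k))) := by
    have : CommRingCat.ofHom (algebraMap k k) = 𝟙 (CommRingCat.of k) := rfl
    rw [this, Spec.map_id]
    infer_instance
  haveI : IsIso (FBase.bcπ q k) := by
    unfold FBase.bcπ
    exact Limits.pullback_fst_iso_of_right_iso _ _
  exact (FBase.bcπ q k).surjective

/-- Geometric irreducibility (tested on the trivial extension) gives irreducibility. -/
theorem isIrreducible_of_geom (f : X ⟶ Y) (y : Y) (CC : Set X) (hCC : CC ⊆ f.base ⁻¹' {y})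
    (hirr : ∀ (K : Type u) [Field K] [Algebra (IsLocalRing.ResidueField (Y.presheaf.stalk y)) K],
      IsIrreducible ((FBase.bcπ (f.fiberToSpecResidueField y) K ≫ f.fiberι y).base ⁻¹' CC)) :
    IsIrreducible CC := by
  have h1 := hirr (IsLocalRing.ResidueField (Y.presheaf.stalk y))
  set φ := FBase.bcπ (f.fiberToSpecResidueField y)
    (IsLocalRing.ResidueField (Y.presheaf.stalk y)) ≫ f.fiberι y with hφ
  have hsurj := bcπ_self_surjective (f.fiberToSpecResidueField y)
  have himg : φ.base '' (φ.base ⁻¹' CC) = CC := by
    rw [Set.image_preimage_eq_inter_range]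
    apply Set.inter_eq_left.mpr
    intro c hc
    have hc' : c ∈ Set.range (f.fiberι y) := by
      rw [f.range_fiberι]; exact hCC hc
    obtain ⟨w, rfl⟩ := hc'
    obtain ⟨v, rfl⟩ := hsurj w
    exact ⟨v, rfl⟩
  rw [← himg]
  exact h1.image _ φ.continuous.continuousOn

theorem main4954 (f : X ⟶ Y) [LocallyOfFiniteType f] (g : Y ⟶ X) (hfg : ∀ t : Y, f (g t) = t)
    (hirr : ∀ y : Y, (∀ (K : Type u) [Field K]
      [Algebra (IsLocalRing.ResidueField (Y.presheaf.stalk y)) K],
        IsIrreducible ((FBase.bcπ (f.fiberToSpecResidueField y) K ≫ f.fiberι y).base ⁻¹'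
          connectedComponentIn (f.base ⁻¹' {y}) (g.base y)))) :
    UpperSemicontinuous (fun y : Y =>
      topologicalKrullDim ↥(connectedComponentIn (f.base ⁻¹' {y}) (g.base y))) :=
  upperSemicontinuous_dim_sectionComponent f g hfg fun y =>
    isIrreducible_of_geom f y _ (connectedComponentIn_subset _ _) (hirr y)

end Groth.Agent.Lib.Helper24.SecComp
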